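import Groth.Agent.L28.Morse
import Mathlib.LinearAlgebra.Matrix.NonsingularInverse

/-!
The Hessian at the origin of a power series and its behaviour under substitution.
-/

set_option autoImplicit false
universe u
open MvPowerSeries Finset Groth.L28.PSer

namespace Groth.L28.HessCrit

variable {A : Type u} [CommRing A] {n : ℕ}

/-- Second partial derivative at the origin. -/
noncomputable def H (f : MvPowerSeries (Fin n) A) (i j : Fin n) : A :=
  constantCoeff (pderiv A j (pderiv A i f))

lemma H_eq_polar (f : MvPowerSeries (Fin n) A) (i j : Fin n) :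
    H f i j = VanCyc.polarMatrix (VanCyc.quadPart f) i j := by
  rw [H, constantCoeff_pderiv, Morse.polar_quadPart]

lemma H_add (f g : MvPowerSeries (Fin n) A) (i j : Fin n) : H (f + g) i j = H f i j + H g i j := by
  simp [H]

lemma H_sum {ι : Type*} (s : Finset ι) (f : ι → MvPowerSeries (Fin n) A) (i j : Fin n) :
    H (∑ a ∈ s, f a) i j = ∑ a ∈ s, H (f a) i j := by
  simp [H, map_sum]

lemma H_mul (p q : MvPowerSeries (Fin n) A) (i j : Fin n) :
    H (p * q) i j = constantCoeff p * H q i j + constantCoeff q * H p i j +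
      coeff (Finsupp.single i 1) p * coeff (Finsupp.single j 1) q +
      coeff (Finsupp.single j 1) p * coeff (Finsupp.single i 1) q := by
  simp only [H, Derivation.leibniz, smul_eq_mul, map_add, map_mul, ← constantCoeff_pderiv]
  ring

lemma H_C_mul (c : A) (f : MvPowerSeries (Fin n) A) (i j : Fin n) :
    H (C c * f) i j = c * H f i j := by
  simp [H, Derivation.leibniz, constantCoeff_pderiv]

lemma H_eq_zero {f : MvPowerSeries (Fin n) A} (hf : ((3 : ℕ) : ℕ∞) ≤ f.order) (i j : Fin n) :
    H f i j = 0 := by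
  rw [H, constantCoeff_pderiv, coeff_single_pderiv]
  have h : ∀ d : Fin n →₀ ℕ, d.degree = 2 → coeff d f = 0 := fun d hd =>
    coeff_of_lt_order (lt_of_lt_of_le (Nat.cast_lt.mpr (by omega)) hf)
  split_ifs
  · rw [h _ (by simp), mul_zero]
  · exact h _ (by simp)

lemma sum_polar (a : Fin n → Fin n → A) (x y : Fin n → A) :
    ∑ p, ∑ q, (if p ≤ q then a p q * (x p * y q + x q * y p) else 0) =
      ∑ p, ∑ q, x p * VanCyc.polarMatrix a p q * y q := by
  have hP : ∀ p q, VanCyc.polarMatrix a p q =
      (if p ≤ q then a p q else 0) + (if q ≤ p then a q p else 0) := by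
    intro i j
    unfold VanCyc.polarMatrix
    rcases lt_trichotomy i j with h | rfl | h
    · simp [h.ne, h, h.le, not_le.mpr h]
    · simp [two_mul]
    · simp [h.ne', not_lt.mpr h.le, h.le, not_le.mpr h]
  simp only [hP, mul_add, add_mul, Finset.sum_add_distrib]
  rw [Finset.sum_comm (f := fun p q => x p * (if q ≤ p then a q p else 0) * y q),
    ← Finset.sum_add_distrib]
  refine Finset.sum_congr rfl fun p _ => ?_
  rw [← Finset.sum_add_distrib]
  refine Finset.sum_congr rfl fun q _ => ?_
  split_ifs <;> ring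

lemma H_Q (a : Fin n → Fin n → A) (v : Fin n → MvPowerSeries (Fin n) A)
    (hv : ∀ p, constantCoeff (v p) = 0) (i j : Fin n) :
    H (Morse.Q a v) i j = ∑ p, ∑ q, coeff (Finsupp.single i 1) (v p) *
      VanCyc.polarMatrix a p q * coeff (Finsupp.single j 1) (v q) := by
  rw [← sum_polar a (fun p => coeff (Finsupp.single i 1) (v p))
    (fun q => coeff (Finsupp.single j 1) (v q)), Morse.Q, H_sum]
  refine Finset.sum_congr rfl fun p _ => ?_
  rw [H_sum]
  refine Finset.sum_congr rfl fun q _ => ?_
  split_ifs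
  · rw [mul_assoc, H_C_mul, H_mul, hv, hv]
    ring
  · simp [H]

lemma H_mul_left {g : MvPowerSeries (Fin n) A} (hg : VanCyc.NoLowTerms g)
    (c : MvPowerSeries (Fin n) A) (i j : Fin n) :
    H (g * c) i j = constantCoeff c * H g i j := by
  rw [H_mul, hg.1, hg.2, hg.2]
  ring

lemma mem_sq_of_noLow {g : MvPowerSeries (Fin n) A} (hg : VanCyc.NoLowTerms g) :
    g ∈ M (Fin n) A ^ 2 := by
  have h := sub_linear_mem_sq g hg.1
  simpa [hg.2] using h

lemma pderiv_sub_linear {g : MvPowerSeries (Fin n) A} (hg : VanCyc.NoLowTerms g) (i : Fin n) :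
    pderiv A i g - ∑ l, C (VanCyc.polarMatrix (VanCyc.quadPart g) i l) * X l ∈ M (Fin n) A ^ 2 := by
  have h := sub_linear_mem_sq (pderiv A i g) (by rw [constantCoeff_pderiv]; exact hg.2 i)
  simp only [Morse.polar_quadPart] at h
  exact h

lemma coeff_single_of_mem_sq {f : MvPowerSeries (Fin n) A} (hf : f ∈ M (Fin n) A ^ 2) (i : Fin n) :
    coeff (Finsupp.single i 1) f = 0 :=
  coeff_of_lt_order (lt_of_lt_of_le (Nat.cast_lt.mpr (by simp)) (order_mem_pow f 2 hf))

lemma coeff_single_mul_of_constantCoeff (c p : MvPowerSeries (Fin n) A) (hp : constantCoeff p = 0)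
    (i : Fin n) :
    coeff (Finsupp.single i 1) (c * p) = constantCoeff c * coeff (Finsupp.single i 1) p := by
  simp only [← constantCoeff_pderiv, Derivation.leibniz, smul_eq_mul, map_add, map_mul, hp]
  ring

section field

variable {k : Type u} [Field k]

/-- The Hessian is invertible if and only if the partials generate the variables modulo `M²`. -/
theorem isUnit_det_iff {g : MvPowerSeries (Fin n) k} (hg : VanCyc.NoLowTerms g) :
    IsUnit (VanCyc.polarMatrix (VanCyc.quadPart g)).det ↔
      M (Fin n) k ≤ Ideal.span (Set.range fun i => pderiv k i g) ⊔ M (Fin n) k ^ 2 := by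
  set P := VanCyc.polarMatrix (VanCyc.quadPart g) with hP
  set J := Ideal.span (Set.range fun i => pderiv k i g) ⊔ M (Fin n) k ^ 2
  have hl : ∀ i, ∑ l, C (P i l) * X l ∈ J := fun i => by
    rw [← sub_sub_cancel (pderiv k i g) (∑ l, C (P i l) * X l)]
    exact sub_mem (Ideal.mem_sup_left (Ideal.subset_span ⟨i, rfl⟩))
      (Ideal.mem_sup_right (pderiv_sub_linear hg i))
  constructor
  · intro hdet
    refine Ideal.span_le.mpr ?_
    rintro _ ⟨j, rfl⟩
    have e : (X j : MvPowerSeries (Fin n) k) = ∑ i, C (P⁻¹ j i) * ∑ l, C (P i l) * X l := by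
      simp only [Finset.mul_sum, ← mul_assoc, ← map_mul]
      rw [Finset.sum_comm]
      simp only [← Finset.sum_mul, ← map_sum, ← Matrix.mul_apply, Matrix.nonsing_inv_mul _ hdet,
        Matrix.one_apply]
      rw [Finset.sum_eq_single j (fun b _ hb => by simp [Ne.symm hb]) (by simp)]
      simp
    rw [SetLike.mem_coe, e]
    exact sum_mem fun i _ => Ideal.mul_mem_left _ _ (hl i)
  · intro h
    have : ∀ j : Fin n, ∃ c : Fin n → k, ∀ l, ∑ i, c i * P i l = if j = l then 1 else 0 := by
      intro j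
      obtain ⟨y, hy, z, hz, hyz⟩ := Submodule.mem_sup.1 (h (X_mem j))
      obtain ⟨c, rfl⟩ := Ideal.mem_span_range_iff_exists_fun.1 hy
      refine ⟨fun i => constantCoeff (c i), fun l => ?_⟩
      have hc := congrArg (coeff (Finsupp.single l 1)) hyz
      rw [map_add, map_sum, coeff_single_of_mem_sq hz, add_zero, coeff_X] at hc
      have hp0 : ∀ i, constantCoeff (pderiv k i g) = 0 := fun i => by
        rw [constantCoeff_pderiv]; exact hg.2 i
      simp only [coeff_single_mul_of_constantCoeff _ _ (hp0 _), Morse.polar_quadPart] at hc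
      rw [hc]
      exact if_congr ⟨fun h => ((Finsupp.single_eq_single_iff _ _ _ _).1 h).elim
        (fun h => h.1.symm) (fun h => absurd h.1 one_ne_zero), fun h => h ▸ rfl⟩ rfl rfl
    choose c hc using this
    have hmul : Matrix.of c * P = 1 := by
      ext j l
      rw [Matrix.mul_apply, Matrix.one_apply]
      exact hc j l
    exact Matrix.isUnit_det_of_left_inverse hmul

open scoped Matrix in
/-- Invertibility of the Hessian does not depend on the presentation of the hypersurface. -/
theorem isUnit_det_of_algEquiv {F g : MvPowerSeries (Fin n) k} (hF : VanCyc.NondegQuadSeries F)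
    (hg : VanCyc.NoLowTerms g)
    (ψ : (MvPowerSeries (Fin n) k ⧸ Ideal.span {F}) ≃ₐ[k]
      (MvPowerSeries (Fin n) k ⧸ Ideal.span {g})) :
    IsUnit (VanCyc.polarMatrix (VanCyc.quadPart g)).det := by
  let S := MvPowerSeries (Fin n) k
  let π : S →ₐ[k] S ⧸ Ideal.span {F} := Ideal.Quotient.mkₐ k _
  let π' : S →ₐ[k] S ⧸ Ideal.span {g} := Ideal.Quotient.mkₐ k _
  let χ : S →ₐ[k] S ⧸ Ideal.span {g} := ψ.toAlgHom.comp π
  have hF0 : F ∈ M (Fin n) k := Ideal.pow_le_self two_ne_zero (mem_sq_of_noLow hF.1)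
  have hg0 : g ∈ M (Fin n) k := Ideal.pow_le_self two_ne_zero (mem_sq_of_noLow hg)
  have hMne : M (Fin n) k ≠ ⊤ := by
    rw [← maximalIdeal_eq]; exact (IsLocalRing.maximalIdeal.isMaximal S).ne_top
  haveI : Nontrivial (S ⧸ Ideal.span {F}) := Ideal.Quotient.nontrivial_iff.mpr
    (ne_top_of_le_ne_top hMne ((Ideal.span_singleton_le_iff_mem _).mpr hF0))
  haveI : Nontrivial (S ⧸ Ideal.span {g}) := Ideal.Quotient.nontrivial_iff.mpr
    (ne_top_of_le_ne_top hMne ((Ideal.span_singleton_le_iff_mem _).mpr hg0))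
  haveI : IsLocalRing (S ⧸ Ideal.span {g}) :=
    IsLocalRing.of_surjective' π'.toRingHom (Ideal.Quotient.mkₐ_surjective k _)
  have hχs : Function.Surjective χ := ψ.surjective.comp (Ideal.Quotient.mkₐ_surjective k _)
  have hχM : (M (Fin n) k).map χ = (M (Fin n) k).map π' := by
    rw [← maximalIdeal_eq]
    exact (IsLocalRing.map_maximalIdeal_of_surjective χ.toRingHom hχs).trans
      (IsLocalRing.map_maximalIdeal_of_surjective π'.toRingHom
        (Ideal.Quotient.mkₐ_surjective k _)).symm
  choose v hv using fun p => Ideal.Quotient.mkₐ_surjective k (Ideal.span {g}) (χ (X p))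
  have hv0 : ∀ p, constantCoeff (v p) = 0 := fun p => by
    by_contra h
    have hu : IsUnit (π' (v p)) :=
      (MvPowerSeries.isUnit_iff_constantCoeff.2 (isUnit_iff_ne_zero.2 h)).map π'
    rw [show π' (v p) = χ (X p) from hv p] at hu
    have hm : χ (X p) ∈ (M (Fin n) k).map π' := hχM ▸ Ideal.mem_map_of_mem χ (X_mem p)
    have htop := Ideal.eq_top_of_isUnit_mem _ hm hu
    rw [← maximalIdeal_eq] at htop
    exact (IsLocalRing.maximalIdeal.isMaximal (S ⧸ Ideal.span {g})).ne_top
      ((IsLocalRing.map_maximalIdeal_of_surjective π'.toRingHom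
        (Ideal.Quotient.mkₐ_surjective k _)).symm.trans htop)
  have hC : ∀ c, χ (C c) = π' (C c) := fun c => by
    rw [show (C c : S) = algebraMap k S c from rfl, AlgHom.commutes, AlgHom.commutes]
  -- the linear part has a left inverse
  let L : Matrix (Fin n) (Fin n) k := fun p i => coeff (Finsupp.single i 1) (v p)
  have hlin : ∀ j : Fin n, ∃ c : Fin n → k, ∀ i, ∑ p, c p * L p i = if j = i then 1 else 0 := by
    intro j
    obtain ⟨h, hh, hhj⟩ : ∃ h ∈ M (Fin n) k, χ h = π' (X j) :=
      (Ideal.mem_map_iff_of_surjective χ hχs).1 (hχM ▸ Ideal.mem_map_of_mem π' (X_mem j))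
    refine ⟨fun p => coeff (Finsupp.single p 1) h, fun i => ?_⟩
    have hc0 : constantCoeff h = 0 := one_le_order_iff_constCoeff_eq_zero.1
      (by simpa using order_mem_pow h 1 (by simpa using hh))
    have h2 := Ideal.mem_map_of_mem χ (sub_linear_mem_sq h hc0)
    rw [Ideal.map_pow, hχM, ← Ideal.map_pow] at h2
    obtain ⟨w, hw, hwe⟩ := (Ideal.mem_map_iff_of_surjective π'
      (Ideal.Quotient.mkₐ_surjective k _)).1 h2
    have h3 : π' w = π' (X j - ∑ p, C (coeff (Finsupp.single p 1) h) * v p) := by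
      rw [hwe]
      simp only [map_sub, map_sum, map_mul, hC, hhj]
      exact congrArg _ (Finset.sum_congr rfl fun p _ => by rw [show π' (v p) = χ (X p) from hv p])
    obtain ⟨u, hu⟩ := Ideal.mem_span_singleton.1 ((Ideal.Quotient.mk_eq_mk_iff_sub_mem _ _).1 h3)
    have h4 := congrArg (coeff (Finsupp.single i 1)) hu
    rw [coeff_single_of_mem_sq (Ideal.mul_mem_right u _ (mem_sq_of_noLow hg)), map_sub,
      coeff_single_of_mem_sq hw, map_sub, map_sum, zero_sub, neg_eq_zero, sub_eq_zero] at h4
    simp only [coeff_C_mul, coeff_X] at h4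
    rw [← h4]
    exact if_congr ⟨fun h => ((Finsupp.single_eq_single_iff _ _ _ _).1 h).elim
        (fun h => h.1.symm) (fun h => absurd h.1 one_ne_zero), fun h => h ▸ rfl⟩ rfl rfl
  choose c hc using hlin
  have hL : IsUnit L.det := Matrix.isUnit_det_of_left_inverse (B := Matrix.of c) (by
    ext j i; rw [Matrix.mul_apply, Matrix.one_apply]; exact hc j i)
  -- the quadratic parts are proportional
  have hQ : Morse.Q (VanCyc.quadPart F) X - F ∈ M (Fin n) k ^ 3 := by
    rw [← neg_mem_iff, neg_sub]
    exact mem_pow_of_order 3 _ (Morse.order_sub_quadPart hF.1)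
  have h5 := Ideal.mem_map_of_mem χ hQ
  rw [Ideal.map_pow, hχM, ← Ideal.map_pow] at h5
  obtain ⟨w, hw, hwe⟩ := (Ideal.mem_map_iff_of_surjective π'
    (Ideal.Quotient.mkₐ_surjective k _)).1 h5
  have hFz : χ F = 0 := by
    show ψ (Ideal.Quotient.mk _ F) = 0
    rw [Ideal.Quotient.eq_zero_iff_mem.2 (Ideal.mem_span_singleton_self F), map_zero]
  have h6 : π' w = π' (Morse.Q (VanCyc.quadPart F) v) := by
    rw [hwe, map_sub, hFz, sub_zero]
    simp only [Morse.Q, map_sum]
    refine Finset.sum_congr rfl fun p _ => Finset.sum_congr rfl fun q _ => ?_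
    split_ifs
    · simp only [map_mul, hC, show ∀ p, π' (v p) = χ (X p) from hv]
    · simp
  obtain ⟨u, hu⟩ := Ideal.mem_span_singleton.1 ((Ideal.Quotient.mk_eq_mk_iff_sub_mem _ _).1 h6)
  have key : Lᵀ * VanCyc.polarMatrix (VanCyc.quadPart F) * L =
      (-constantCoeff u) • VanCyc.polarMatrix (VanCyc.quadPart g) := by
    ext i j
    have h7 := congrArg (fun f => H f i j) hu
    have hsub : H (w - Morse.Q (VanCyc.quadPart F) v) i j =
        H w i j - H (Morse.Q (VanCyc.quadPart F) v) i j := by simp [H]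
    simp only [hsub, H_eq_zero (order_mem_pow w 3 hw), H_mul_left hg, H_Q _ _ hv0,
      zero_sub] at h7
    rw [Matrix.smul_apply, smul_eq_mul, neg_mul, ← H_eq_polar, ← h7, neg_neg, Matrix.mul_apply]
    simp only [Matrix.mul_apply, Matrix.transpose_apply, Finset.sum_mul]
    exact Finset.sum_comm
  have hd := congrArg Matrix.det key
  rw [Matrix.det_mul, Matrix.det_mul, Matrix.det_transpose, Matrix.det_smul] at hd
  exact isUnit_of_mul_isUnit_right (hd ▸ (hL.mul hF.2).mul hL)

end field

end Groth.L28.HessCrit
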