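import Groth.Agent.L28.HessCrit.Hess
import Groth.Agent.L12.PowSer
import Groth.Agent.L12.CRingBasic
import Groth.Agent.L12.PSRing
import Mathlib.RingTheory.AdicCompletion.Algebra
import Mathlib.RingTheory.AdicCompletion.RingHom
import Mathlib.RingTheory.MvPolynomial.Ideal
import Mathlib.RingTheory.MvPowerSeries.Trunc
import Mathlib.RingTheory.Nullstellensatz
import Mathlib.RingTheory.Localization.AtPrime.Basic

/-!
The completion at a rational point of an affine hypersurface, and the Jacobian criterion for a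
non-degenerate quadratic singularity.
-/

set_option autoImplicit false
set_option linter.style.haveILetI false
universe u

open IsLocalRing Groth.L28.PSer

namespace Groth.L28.HessCrit

/-- A map of local algebras inducing isomorphisms of all truncations identifies the completion. -/
theorem exists_completion_algEquiv {k A T : Type u} [CommRing k] [CommRing A] [CommRing T]
    [Algebra k A] [Algebra k T] [IsLocalRing A] [IsLocalRing T]
    [IsAdicComplete (maximalIdeal T) T] (θ : A →ₐ[k] T)
    (hden : ∀ (n : ℕ) (t : T), ∃ a, t - θ a ∈ maximalIdeal T ^ n)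
    (hker : ∀ (n : ℕ) (a : A), θ a ∈ maximalIdeal T ^ n ↔ a ∈ maximalIdeal A ^ n) :
    Nonempty (AdicCompletion (maximalIdeal A) A ≃ₐ[k] T) := by
  let q : ∀ n, (A ⧸ maximalIdeal A ^ n) →ₐ[k] T ⧸ maximalIdeal T ^ n := fun n =>
    Ideal.quotientMapₐ (maximalIdeal T ^ n) θ fun a ha => (hker n a).2 ha
  have hq : ∀ n a, q n (Ideal.Quotient.mk _ a) = Ideal.Quotient.mk _ (θ a) := fun n a => rfl
  have hbij : ∀ n, Function.Bijective (q n) := fun n => by
    refine ⟨(injective_iff_map_eq_zero _).2 fun z hz => ?_, fun z => ?_⟩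
    · obtain ⟨a, rfl⟩ := Ideal.Quotient.mk_surjective z
      rw [hq, Ideal.Quotient.eq_zero_iff_mem, hker] at hz
      exact Ideal.Quotient.eq_zero_iff_mem.2 hz
    · obtain ⟨t, rfl⟩ := Ideal.Quotient.mk_surjective z
      obtain ⟨a, ha⟩ := hden n t
      exact ⟨Ideal.Quotient.mk _ a, (hq n a).trans (Ideal.Quotient.eq.2 ha).symm⟩
  let e : ∀ n, (A ⧸ maximalIdeal A ^ n) ≃ₐ[k] T ⧸ maximalIdeal T ^ n :=
    fun n => AlgEquiv.ofBijective (q n) (hbij n)
  let f : ∀ n, T →ₐ[k] A ⧸ maximalIdeal A ^ n :=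
    fun n => (e n).symm.toAlgHom.comp (Ideal.Quotient.mkₐ k _)
  have hf' : ∀ {n : ℕ} {t : T} {a : A}, t - θ a ∈ maximalIdeal T ^ n →
      f n t = Ideal.Quotient.mk _ a := fun {n t a} h => by
    apply (e n).injective
    show e n ((e n).symm (Ideal.Quotient.mk _ t)) = _
    rw [AlgEquiv.apply_symm_apply]
    exact (Ideal.Quotient.eq.2 h).trans (hq n a).symm
  have hf : ∀ {m n : ℕ} (hle : m ≤ n),
      (Ideal.Quotient.factorₐ k (Ideal.pow_le_pow_right hle)).comp (f n) = f m := fun {m n} hle => by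
    refine AlgHom.ext fun t => ?_
    obtain ⟨a, ha⟩ := hden n t
    show Ideal.Quotient.factorₐ k (Ideal.pow_le_pow_right hle) (f n t) = f m t
    rw [hf' ha, hf' (Ideal.pow_le_pow_right hle ha)]
    rfl
  let Φ := AdicCompletion.liftAlgHom (maximalIdeal A) f hf
  have hΦ : ∀ n t, AdicCompletion.evalₐ (maximalIdeal A) n (Φ t) = f n t := fun n t =>
    AdicCompletion.evalₐ_liftAlgHom _ _ hf n t
  refine ⟨(AlgEquiv.ofBijective Φ ⟨(injective_iff_map_eq_zero _).2 fun t ht => ?_, fun y => ?_⟩).symm⟩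
  · refine IsHausdorff.haus (I := maximalIdeal T) (M := T) inferInstance t fun n => ?_
    rw [SModEq.sub_mem, sub_zero, smul_eq_mul, Ideal.mul_top]
    have := hΦ n t
    rw [ht, map_zero] at this
    obtain ⟨a, ha⟩ := hden n t
    rw [hf' ha, eq_comm, Ideal.Quotient.eq_zero_iff_mem, ← hker] at this
    simpa using add_mem ha this
  · obtain ⟨x, rfl⟩ := AdicCompletion.mk_surjective (maximalIdeal A) A y
    obtain ⟨L, hL⟩ := IsPrecomplete.prec (I := maximalIdeal T) (M := T) inferInstance
      (f := fun n => θ (x.val n)) (fun {m n} hmn => by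
        rw [SModEq.sub_mem, smul_eq_mul, Ideal.mul_top, ← map_sub, hker]
        have := SModEq.sub_mem.1 (x.2 hmn)
        rwa [smul_eq_mul, Ideal.mul_top] at this)
    refine ⟨L, AdicCompletion.ext_evalₐ fun n => ?_⟩
    rw [hΦ, AdicCompletion.evalₐ_mk]
    refine hf' ?_
    have := SModEq.sub_mem.1 (hL n)
    rw [smul_eq_mul, Ideal.mul_top] at this
    rw [← neg_sub]
    exact neg_mem this

/-- An ideal is the maximal ideal iff its image generates the maximal ideal modulo its square. -/
theorem eq_maximalIdeal_iff {A T : Type u} [CommRing A] [CommRing T] [IsLocalRing A] [IsLocalRing T]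
    [IsNoetherianRing A] (θ : A →+* T)
    (hden : ∀ (n : ℕ) (t : T), ∃ a, t - θ a ∈ maximalIdeal T ^ n)
    (hker : ∀ (n : ℕ) (a : A), θ a ∈ maximalIdeal T ^ n ↔ a ∈ maximalIdeal A ^ n)
    {J : Ideal A} (hJ : J ≤ maximalIdeal A) :
    J = maximalIdeal A ↔ maximalIdeal T ≤ J.map θ ⊔ maximalIdeal T ^ 2 := by
  have h1 : ∀ a, θ a ∈ maximalIdeal T ↔ a ∈ maximalIdeal A := fun a => by simpa using hker 1 a
  constructor
  · rintro rfl x hx
    obtain ⟨z, hz⟩ := hden 2 x
    rw [← sub_add_cancel x (θ z)]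
    refine add_mem (Ideal.mem_sup_right hz) (Ideal.mem_sup_left (Ideal.mem_map_of_mem _ ((h1 z).1 ?_)))
    rw [← sub_sub_cancel x (θ z)]
    exact sub_mem hx (Ideal.pow_le_self two_ne_zero hz)
  · intro h
    refine le_antisymm hJ ?_
    refine Submodule.le_of_le_smul_of_le_jacobson_bot (IsNoetherian.noetherian (maximalIdeal A))
      (IsLocalRing.jacobson_eq_maximalIdeal (⊥ : Ideal A) bot_ne_top).ge fun z hz => ?_
    have key : ∀ y ∈ J.map θ, ∃ b ∈ J, y - θ b ∈ maximalIdeal T ^ 2 := by
      intro y hy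
      induction hy using Submodule.span_induction with
      | mem y hy => obtain ⟨b, hb, rfl⟩ := hy; exact ⟨b, hb, by simp⟩
      | zero => exact ⟨0, zero_mem _, by simp⟩
      | add y y' _ _ hy hy' =>
        obtain ⟨b, hb, hby⟩ := hy
        obtain ⟨b', hb', hby'⟩ := hy'
        exact ⟨b + b', add_mem hb hb', by
          rw [map_add, add_sub_add_comm]; exact add_mem hby hby'⟩
      | smul c y _ hy =>
        obtain ⟨b, hb, hby⟩ := hy
        obtain ⟨c', hc'⟩ := hden 1 c
        refine ⟨c' * b, J.mul_mem_left _ hb, ?_⟩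
        rw [smul_eq_mul, map_mul, show c * y - θ c' * θ b = c * (y - θ b) + (c - θ c') * θ b by ring]
        refine add_mem (Ideal.mul_mem_left _ _ hby) ?_
        rw [pow_two]
        exact Ideal.mul_mem_mul (by simpa using hc') ((h1 b).2 (hJ hb))
    obtain ⟨y, hy, w, hw, hyw⟩ := Submodule.mem_sup.1 (h ((h1 z).2 hz))
    obtain ⟨b, hb, hby⟩ := key y hy
    rw [← add_sub_cancel b z]
    refine add_mem (Submodule.mem_sup_left hb) (Submodule.mem_sup_right ?_)
    rw [smul_eq_mul, ← pow_two, ← hker, map_sub, ← hyw, add_sub_right_comm]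
    exact add_mem hby hw

section point

variable {k : Type u} [Field k] {N : ℕ}

open MvPolynomial

/-- Translation by `a`. -/
noncomputable def shift (a : Fin N → k) : MvPolynomial (Fin N) k ≃ₐ[k] MvPolynomial (Fin N) k :=
  AlgEquiv.ofAlgHom (aeval fun i => X i + C (a i)) (aeval fun i => X i - C (a i))
    (algHom_ext fun i => by simp) (algHom_ext fun i => by simp)

lemma shift_apply (a : Fin N → k) (p : MvPolynomial (Fin N) k) :
    shift a p = aeval (fun i => X i + C (a i)) p := rfl

lemma constantCoeff_shift (a : Fin N → k) (p : MvPolynomial (Fin N) k) :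
    constantCoeff (shift a p) = eval a p := by
  induction p using MvPolynomial.induction_on with
  | C c => simp [shift_apply]
  | add p q hp hq => simp [map_add, hp, hq]
  | mul_X p i hp => rw [map_mul, map_mul, map_mul, hp]; simp [shift_apply]

lemma pderiv_shift (a : Fin N → k) (j : Fin N) (p : MvPolynomial (Fin N) k) :
    pderiv j (shift a p) = shift a (pderiv j p) := by
  induction p using MvPolynomial.induction_on with
  | C c => simp [shift_apply]
  | add p q hp hq => simp [map_add, hp, hq]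
  | mul_X p i hp =>
    rw [map_mul, Derivation.leibniz, Derivation.leibniz, hp]
    simp only [smul_eq_mul, map_add, map_mul]
    congr 1
    simp only [shift_apply, aeval_X, map_add, pderiv_C, add_zero, pderiv_X]
    rcases eq_or_ne j i with rfl | h
    · simp
    · simp [Pi.single_eq_of_ne' h]

lemma mem_idealOfVars_iff_constantCoeff (p : MvPolynomial (Fin N) k) :
    p ∈ idealOfVars (Fin N) k ↔ constantCoeff p = 0 := by
  rw [← pow_one (idealOfVars (Fin N) k), mem_pow_idealOfVars_iff', constantCoeff_eq]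
  refine ⟨fun h => h 0 (by simp), fun h x hx => ?_⟩
  rw [(Finsupp.degree_eq_zero_iff x).mp (by omega)]
  exact h

/-- The truncations at a rational point are those of the power series hypersurface. -/
theorem exists_truncations (f : MvPolynomial (Fin N) k) (a : Fin N → k)
    (P : Ideal (MvPolynomial (Fin N) k ⧸ Ideal.span {f})) [P.IsPrime]
    (hP : ∀ p, Ideal.Quotient.mk _ p ∈ P ↔ eval a p = 0)
    [IsLocalRing (MvPowerSeries (Fin N) k ⧸
      Ideal.span {((shift a f : MvPolynomial (Fin N) k) : MvPowerSeries (Fin N) k)})] :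
    ∃ θ : Localization.AtPrime P →ₐ[k] (MvPowerSeries (Fin N) k ⧸
        Ideal.span {((shift a f : MvPolynomial (Fin N) k) : MvPowerSeries (Fin N) k)}),
      (∀ p, θ (algebraMap (MvPolynomial (Fin N) k ⧸ Ideal.span {f}) _ (Ideal.Quotient.mk _ p)) =
        Ideal.Quotient.mk _ ((shift a p : MvPolynomial (Fin N) k) : MvPowerSeries (Fin N) k)) ∧
      (∀ (n : ℕ) t, ∃ z, t - θ z ∈ maximalIdeal _ ^ n) ∧
      ∀ (n : ℕ) z, θ z ∈ maximalIdeal _ ^ n ↔ z ∈ maximalIdeal (Localization.AtPrime P) ^ n := by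
  classical
  let S := MvPowerSeries (Fin N) k
  let I := idealOfVars (Fin N) k
  let fS : S := ((shift a f : MvPolynomial (Fin N) k) : MvPowerSeries (Fin N) k)
  let T := S ⧸ Ideal.span {fS}
  let R := MvPolynomial (Fin N) k ⧸ Ideal.span {f}
  have hcoe : ∀ (n : ℕ) (p : MvPolynomial (Fin N) k), (p : S) ∈ M (Fin N) k ^ n ↔ p ∈ I ^ n :=
    fun n p => by
    rw [mem_pow_idealOfVars_iff']
    refine ⟨fun h x hx => ?_, fun h => mem_pow_of_order n _ (MvPowerSeries.nat_le_order fun x hx => ?_)⟩
    · rw [← coeff_coe]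
      exact MvPowerSeries.coeff_of_lt_order (lt_of_lt_of_le (Nat.cast_lt.mpr hx) (order_mem_pow _ n h))
    · rw [coeff_coe]
      exact h x hx
  have htr : ∀ (n : ℕ) (F : S), ∃ p : MvPolynomial (Fin N) k, F - (p : S) ∈ M (Fin N) k ^ n :=
    fun n F =>
    ⟨MvPowerSeries.truncTotal n F, mem_pow_of_order n _ (MvPowerSeries.nat_le_order fun x hx => by
      rw [map_sub, coeff_coe, MvPowerSeries.coeff_truncTotal _ hx, sub_self])⟩
  have hMT : maximalIdeal T = (M (Fin N) k).map (Ideal.Quotient.mk (Ideal.span {fS})) := by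
    rw [← maximalIdeal_eq]
    exact (IsLocalRing.map_maximalIdeal_of_surjective _ Ideal.Quotient.mk_surjective).symm
  let g₀ : MvPolynomial (Fin N) k →ₐ[k] T :=
    (Ideal.Quotient.mkₐ k (Ideal.span {fS})).comp
      ((coeToMvPowerSeries.algHom k).comp (shift a).toAlgHom)
  have hg₀ : ∀ p, g₀ p = Ideal.Quotient.mk _ ((shift a p : MvPolynomial (Fin N) k) : S) := fun p => by
    show Ideal.Quotient.mk _ (coeToMvPowerSeries.algHom k (shift a p)) = _
    rw [coeToMvPowerSeries.algHom_apply]
    simp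
  let g : R →ₐ[k] T := Ideal.Quotient.liftₐ _ g₀ fun p hp => by
    obtain ⟨h, rfl⟩ := Ideal.mem_span_singleton.mp hp
    rw [hg₀]
    exact Ideal.Quotient.eq_zero_iff_mem.mpr (Ideal.mem_span_singleton.mpr
      ⟨((shift a h : MvPolynomial (Fin N) k) : S), by rw [map_mul, coe_mul]⟩)
  have hgu : ∀ r : P.primeCompl, IsUnit (g r) := fun r => by
    obtain ⟨p, hp⟩ := Ideal.Quotient.mk_surjective (r : R)
    rw [← hp]
    show IsUnit (g₀ p)
    rw [hg₀]
    refine IsUnit.map (Ideal.Quotient.mk (Ideal.span {fS})) ?_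
    rw [MvPowerSeries.isUnit_iff_constantCoeff, isUnit_iff_ne_zero]
    intro h
    refine r.2 (hp ▸ (hP p).mpr ?_)
    rwa [← MvPowerSeries.coeff_zero_eq_constantCoeff_apply, coeff_coe, ← constantCoeff_eq,
      constantCoeff_shift] at h
  let θ : Localization.AtPrime P →ₐ[k] T := IsLocalization.liftAlgHom (M := P.primeCompl) hgu
  have hθ : ∀ r, θ (algebraMap R _ r) = g r := fun r => IsLocalization.lift_eq _ r
  have hθp : ∀ p, θ (algebraMap R _ (Ideal.Quotient.mk _ p)) =
      Ideal.Quotient.mk _ ((shift a p : MvPolynomial (Fin N) k) : S) := fun p =>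
    (hθ _).trans (hg₀ p)
  have hpow : ∀ n, maximalIdeal T ^ n = (M (Fin N) k ^ n).map (Ideal.Quotient.mk (Ideal.span {fS})) :=
    fun n => by rw [hMT, Ideal.map_pow]
  have hPI : P = I.map ((Ideal.Quotient.mk (Ideal.span {f})).comp
      ((shift a).symm : MvPolynomial (Fin N) k →+* MvPolynomial (Fin N) k)) := by
    refine le_antisymm (fun r hr => ?_) (Ideal.map_le_iff_le_comap.mpr fun p hp => ?_)
    · obtain ⟨p, rfl⟩ := Ideal.Quotient.mk_surjective r
      have h := Ideal.mem_map_of_mem ((Ideal.Quotient.mk (Ideal.span {f})).comp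
        ((shift a).symm : MvPolynomial (Fin N) k →+* MvPolynomial (Fin N) k))
        ((mem_idealOfVars_iff_constantCoeff (shift a p)).2
          (by rw [constantCoeff_shift]; exact (hP p).1 hr))
      simpa using h
    · show Ideal.Quotient.mk _ ((shift a).symm p) ∈ P
      rw [hP, ← constantCoeff_shift, AlgEquiv.apply_symm_apply]
      exact (mem_idealOfVars_iff_constantCoeff p).1 hp
  refine ⟨θ, hθp, fun n t => ?_, fun n z => ⟨fun h => ?_, fun h => ?_⟩⟩
  · obtain ⟨F, rfl⟩ := Ideal.Quotient.mk_surjective t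
    obtain ⟨p, hp⟩ := htr n F
    refine ⟨algebraMap R _ (Ideal.Quotient.mk _ ((shift a).symm p)), ?_⟩
    rw [hθp, AlgEquiv.apply_symm_apply, hpow, ← map_sub]
    exact Ideal.mem_map_of_mem _ hp
  · obtain ⟨r, t, rfl⟩ := IsLocalization.exists_mk'_eq P.primeCompl z
    obtain ⟨p, rfl⟩ := Ideal.Quotient.mk_surjective r
    have h1 : Ideal.Quotient.mk (Ideal.span {fS}) ((shift a p : MvPolynomial (Fin N) k) : S) ∈
        maximalIdeal T ^ n := by
      have h2 := Ideal.mul_mem_right (θ (algebraMap R _ t)) _ h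
      rw [← map_mul, IsLocalization.mk'_spec, hθp] at h2
      exact h2
    rw [hpow] at h1
    obtain ⟨G, hG, hGP⟩ := (Ideal.mem_map_iff_of_surjective _ Ideal.Quotient.mk_surjective).mp h1
    obtain ⟨u, hu⟩ := Ideal.mem_span_singleton.mp (Ideal.Quotient.eq.mp hGP)
    obtain ⟨U, hU⟩ := htr n u
    have hP' : shift a p + shift a f * U ∈ I ^ n := by
      rw [← hcoe, coe_add, coe_mul]
      have h3 : ((shift a p : MvPolynomial (Fin N) k) : S) + fS * (U : S) = G - fS * (u - (U : S)) := by
        linear_combination (-1 : S) * hu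
      show ((shift a p : MvPolynomial (Fin N) k) : S) + fS * (U : S) ∈ M (Fin N) k ^ n
      rw [h3]
      exact sub_mem hG (Ideal.mul_mem_left _ _ hU)
    have hr : (Ideal.Quotient.mk (Ideal.span {f}) p : R) ∈ P ^ n := by
      rw [hPI, ← Ideal.map_pow]
      have h4 := Ideal.mem_map_of_mem ((Ideal.Quotient.mk (Ideal.span {f})).comp
        ((shift a).symm : MvPolynomial (Fin N) k →+* MvPolynomial (Fin N) k)) hP'
      simpa [Ideal.Quotient.eq_zero_iff_mem.2 (Ideal.mem_span_singleton_self f)] using h4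
    rw [IsLocalization.mk'_eq_mul_mk'_one, ← Localization.AtPrime.map_eq_maximalIdeal, ← Ideal.map_pow]
    exact Ideal.mul_mem_right _ _ (Ideal.mem_map_of_mem _ hr)
  · refine (show (maximalIdeal (Localization.AtPrime P) ^ n).map θ ≤ maximalIdeal T ^ n from ?_)
      (Ideal.mem_map_of_mem θ h)
    rw [Ideal.map_pow]
    refine Ideal.pow_right_mono ?_ n
    rw [Ideal.map_le_iff_le_comap, ← Localization.AtPrime.map_eq_maximalIdeal, Ideal.map_le_iff_le_comap]
    intro r hr
    obtain ⟨p, rfl⟩ := Ideal.Quotient.mk_surjective r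
    show θ (algebraMap R _ (Ideal.Quotient.mk _ p)) ∈ maximalIdeal T
    rw [hθp, hMT]
    refine Ideal.mem_map_of_mem _ ?_
    rw [← pow_one (M (Fin N) k), hcoe, pow_one, mem_idealOfVars_iff_constantCoeff, constantCoeff_shift]
    exact (hP p).1 hr

end point

theorem result_aux (k : Type u) [Field k] [IsAlgClosed k] (m : ℕ)
    (f : MvPolynomial (Fin (m + 1)) k)
    (P : Ideal (MvPolynomial (Fin (m + 1)) k ⧸ Ideal.span {f})) [P.IsMaximal]
    (hP : ∀ j : Fin (m + 1), Ideal.Quotient.mk (Ideal.span {f}) (MvPolynomial.pderiv j f) ∈ P) :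
    Ideal.map (algebraMap (MvPolynomial (Fin (m + 1)) k ⧸ Ideal.span {f}) (Localization.AtPrime P))
        (Ideal.span (Set.range fun j : Fin (m + 1) =>
          Ideal.Quotient.mk (Ideal.span {f}) (MvPolynomial.pderiv j f))) =
      maximalIdeal (Localization.AtPrime P) ↔
    VanCyc.IsNondegQuadSing k (Localization.AtPrime P) m := by
  classical
  haveI := Ideal.comap_isMaximal_of_surjective _
    (Ideal.Quotient.mk_surjective (I := Ideal.span {f})) (K := P)
  obtain ⟨a, ha⟩ := (MvPolynomial.isMaximal_iff_eq_vanishingIdeal_singleton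
    (I := P.comap (Ideal.Quotient.mk (Ideal.span {f})))).1 inferInstance
  have hPa : ∀ p, Ideal.Quotient.mk _ p ∈ P ↔ MvPolynomial.eval a p = 0 := fun p => by
    rw [← Ideal.mem_comap, ha, MvPolynomial.mem_vanishingIdeal_singleton_iff]
    simp
  set g : MvPowerSeries (Fin (m + 1)) k :=
    ((shift a f : MvPolynomial (Fin (m + 1)) k) : MvPowerSeries (Fin (m + 1)) k) with hg_def
  have hd : ∀ j, MvPowerSeries.pderiv k j g =
      ((shift a (MvPolynomial.pderiv j f) : MvPolynomial (Fin (m + 1)) k) :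
        MvPowerSeries (Fin (m + 1)) k) := fun j => by
    rw [hg_def, MvPowerSeries.pderiv_coe, pderiv_shift]
  have hg : VanCyc.NoLowTerms g := by
    constructor
    · rw [← MvPowerSeries.coeff_zero_eq_constantCoeff_apply, hg_def, MvPolynomial.coeff_coe,
        ← MvPolynomial.constantCoeff_eq, constantCoeff_shift, ← hPa,
        Ideal.Quotient.eq_zero_iff_mem.2 (Ideal.mem_span_singleton_self f)]
      exact P.zero_mem
    · intro i
      rw [← constantCoeff_pderiv, hd, ← MvPowerSeries.coeff_zero_eq_constantCoeff_apply,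
        MvPolynomial.coeff_coe, ← MvPolynomial.constantCoeff_eq, constantCoeff_shift, ← hPa]
      exact hP i
  have hg0 : g ∈ M (Fin (m + 1)) k := Ideal.pow_le_self two_ne_zero (mem_sq_of_noLow hg)
  let S := MvPowerSeries (Fin (m + 1)) k
  let T := S ⧸ Ideal.span {g}
  let π : S →+* T := Ideal.Quotient.mk _
  haveI : Nontrivial T := Ideal.Quotient.nontrivial_iff.mpr
    (ne_top_of_le_ne_top (maximalIdeal.isMaximal S).ne_top
      ((Ideal.span_singleton_le_iff_mem _).mpr (maximalIdeal_eq (σ := Fin (m + 1)) (k := k) ▸ hg0)))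
  haveI : IsLocalRing T := IsLocalRing.of_surjective' π Ideal.Quotient.mk_surjective
  haveI : IsAdicComplete (maximalIdeal k) k := by
    rw [maximalIdeal_eq_bot]; infer_instance
  haveI : IsAdicComplete (maximalIdeal S) S := Groth.L12.isAdicComplete_mvPowerSeries
  haveI : IsAdicComplete (maximalIdeal T) T :=
    Groth.L12.isAdicComplete_of_surjective π Ideal.Quotient.mk_surjective
  obtain ⟨θ, hθp, hden, hker⟩ := exists_truncations f a P hPa
  obtain ⟨eC⟩ := exists_completion_algEquiv (k := k) (A := Localization.AtPrime P) (T := T) θ hden hker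
  have hMT : maximalIdeal T = (M (Fin (m + 1)) k).map π := by
    rw [← maximalIdeal_eq]
    exact (IsLocalRing.map_maximalIdeal_of_surjective _ Ideal.Quotient.mk_surjective).symm
  set J := Ideal.map (algebraMap (MvPolynomial (Fin (m + 1)) k ⧸ Ideal.span {f})
    (Localization.AtPrime P)) (Ideal.span (Set.range fun j : Fin (m + 1) =>
      Ideal.Quotient.mk (Ideal.span {f}) (MvPolynomial.pderiv j f))) with hJ
  have hJθ : J.map θ.toRingHom = (Ideal.span (Set.range fun j => MvPowerSeries.pderiv k j g)).map π := by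
    rw [hJ, Ideal.map_map, Ideal.map_span, Ideal.map_span, ← Set.range_comp, ← Set.range_comp]
    congr 2
    funext j
    show _ = π (MvPowerSeries.pderiv k j g)
    rw [hd]
    exact hθp _
  have hJle : J ≤ maximalIdeal (Localization.AtPrime P) := by
    rw [hJ, ← Localization.AtPrime.map_eq_maximalIdeal]
    exact Ideal.map_mono (Ideal.span_le.2 (by rintro _ ⟨j, rfl⟩; exact hP j))
  have crit : J = maximalIdeal (Localization.AtPrime P) ↔
      M (Fin (m + 1)) k ≤ Ideal.span (Set.range fun j => MvPowerSeries.pderiv k j g) ⊔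
        M (Fin (m + 1)) k ^ 2 := by
    haveI : IsNoetherianRing (Localization.AtPrime P) :=
      IsLocalization.isNoetherianRing P.primeCompl _ inferInstance
    refine (eq_maximalIdeal_iff (A := Localization.AtPrime P) (T := T) (J := J) θ.toRingHom
      hden hker hJle).trans ?_
    rw [hJθ, hMT, ← Ideal.map_pow, ← Ideal.map_sup]
    refine ⟨fun h x hx => ?_, fun h => Ideal.map_mono h⟩
    obtain ⟨y, hy, hyx⟩ := (Ideal.mem_map_iff_of_surjective π Ideal.Quotient.mk_surjective).1
      (h (Ideal.mem_map_of_mem π hx))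
    obtain ⟨w, hw⟩ := Ideal.mem_span_singleton.1 (Ideal.Quotient.eq.1 hyx)
    rw [← sub_sub_cancel y x, hw]
    exact sub_mem hy (Ideal.mem_sup_right (Ideal.mul_mem_right w _ (mem_sq_of_noLow hg)))
  rw [crit, ← isUnit_det_iff hg]
  exact ⟨fun h => ⟨g, ⟨hg, h⟩, ⟨eC⟩⟩,
    fun ⟨F, hF, ⟨e₀⟩⟩ => isUnit_det_of_algEquiv hF hg (e₀.symm.trans eC)⟩

end Groth.L28.HessCrit
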